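import Groth.Agent.Lib.PBDeg17.Points
import Groth.Agent.Lib.ExcP1.DataMap
import Groth.Agent.Lib.PicAff28.Basic

/-!
# A projective bundle with standard charts is projective space over the affine base
-/

set_option autoImplicit false
set_option backward.isDefEq.respectTransparency false
set_option linter.style.haveILetI false

universe u

open CategoryTheory CategoryTheory.Limits AlgebraicGeometry TopologicalSpace Opposite MvPolynomial
open GrothLib.InvExt (mres IsGen)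
open GrothLib.Ample (res)

noncomputable section

namespace GrothLib.ProjBdlCoh9

open GrothLib GrothLib.PBDeg GrothLib.Ample.ProjMap

variable {X P : Scheme.{u}} {p : P ⟶ X} {L : P.Modules} {m : ℕ} {z : X} (C : Chart p L m z)

abbrev A : Type u := Γ(X, C.U)

abbrev W : P.Opens := p ⁻¹ᵁ C.U

abbrev V (i : Fin (m + 1)) : P.Opens := (C.c i).opensRange

theorem V_le (i : Fin (m + 1)) : V C i ≤ W C := by
  rintro _ ⟨q, rfl⟩
  exact C.c_mem i q

/-- The chosen sections on the ranges of the charts. -/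
def gi (i k : Fin (m + 1)) : Γ(L, V C i) := mres L (V_le C i) (C.s k)

theorem germ_gi (i k : Fin (m + 1)) (y : P) (hy : y ∈ V C i) :
    L.presheaf.germ (V C i) y hy (gi C i k) = L.presheaf.germ (W C) y (V_le C i hy) (C.s k) :=
  TopCat.Presheaf.germ_res_apply L.presheaf (homOfLE (V_le C i)) y hy (C.s k)

theorem isGen_gi (i : Fin (m + 1)) : IsGen L (V C i) (gi C i i) := by
  refine Ref1.isGen_of_gen fun y hy => ?_
  obtain ⟨q, rfl⟩ := hy
  rw [germ_gi C i i _ ⟨q, rfl⟩]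
  exact C.gen i q (C.c_mem i q)

/-- The ratios. -/
def φ (i k : Fin (m + 1)) : Γ(P, V C i) := PBDeg.sec (C.c i) (crd i k)

theorem φ_self (i : Fin (m + 1)) : φ C i i = 1 := by
  rw [φ, crd_self, map_one]

theorem φ_smul (i k : Fin (m + 1)) : φ C i k • gi C i i = gi C i k := by
  refine TopCat.Presheaf.section_ext (C := Ab.{u}) (⟨L.presheaf, L.isSheaf⟩ : TopCat.Sheaf Ab P) (V C i) _ _
    fun y hy => ?_
  obtain ⟨q, rfl⟩ := hy
  show L.presheaf.germ (V C i) _ ⟨q, rfl⟩ (φ C i k • gi C i i) = L.presheaf.germ (V C i) _ ⟨q, rfl⟩ (gi C i k)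
  rw [germ_gi C i k _ ⟨q, rfl⟩, C.rat i k q (C.c_mem i q), Mero.germ_smul, germ_gi C i i _ ⟨q, rfl⟩]
  rfl

theorem mres_gi (i j k : Fin (m + 1)) {O : P.Opens} (hi : O ≤ V C i) (hj : O ≤ V C j) :
    mres L hi (gi C i k) = mres L hj (gi C j k) := by
  rw [gi, gi, InvExt.mres_mres, InvExt.mres_mres]

theorem mres_φ_smul (i k : Fin (m + 1)) {O : P.Opens} (hi : O ≤ V C i) :
    res hi (φ C i k) • mres L hi (gi C i i) = mres L hi (gi C i k) := by
  rw [← φ_smul C i k]
  exact (L.map_smul (homOfLE hi) _ _).symm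

theorem φ_change (i j k : Fin (m + 1)) {O : P.Opens} (hi : O ≤ V C i) (hj : O ≤ V C j) :
    res hi (φ C i k) = res hi (φ C i j) * res hj (φ C j k) := by
  refine (((isGen_gi C i) O hi).1 ?_)
  show res hi (φ C i k) • mres L hi (gi C i i) = (res hi (φ C i j) * res hj (φ C j k)) • mres L hi (gi C i i)
  rw [mres_φ_smul, mul_comm, mul_smul, mres_φ_smul, mres_gi C i j j hi hj, mres_φ_smul, mres_gi C i j k hi hj]

theorem basicOpen_φ (i j : Fin (m + 1)) : P.basicOpen (φ C i j) = V C i ⊓ V C j := by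
  refine le_antisymm (fun y hy => ?_) ?_
  · have hyi : y ∈ V C i := P.basicOpen_le _ hy
    refine ⟨hyi, C.mem_range j y (V_le C i hyi) ?_⟩
    rw [← germ_gi C i j y hyi, ← φ_smul C i j, Mero.germ_smul]
    exact C1.gen_smul_unit (Ref1.gen_of_isGen (isGen_gi C i) hyi) ((P.mem_basicOpen _ _ hyi).1 hy)
  · have hu : IsUnit (res (inf_le_left : V C i ⊓ V C j ≤ V C i) (φ C i j)) := by
      refine IsUnit.of_mul_eq_one (res (inf_le_right : V C i ⊓ V C j ≤ V C j) (φ C j i)) ?_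
      rw [← φ_change C i j i inf_le_left inf_le_right, φ_self, map_one]
    intro x hx
    exact ((Scheme.basicOpen_res P (φ C i j) (homOfLE (inf_le_left : V C i ⊓ V C j ≤ V C i)).op).le
      ((Scheme.basicOpen_of_isUnit P hu).ge hx)).2

abbrev Z : Scheme.{u} := (W C : Scheme.{u})

/-- The structure map to the affine base. -/
def q : Z C ⟶ Spec (CommRingCat.of (A C)) := (p ∣_ C.U) ≫ C.hU.isoSpec.hom

theorem q_fromSpec : q C ≫ C.hU.fromSpec = (W C).ι ≫ p := by
  rw [q, IsAffineOpen.fromSpec, Category.assoc, Iso.hom_inv_id_assoc, morphismRestrict_ι]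

theorem iSup_V : ⨆ i, (W C).ι ⁻¹ᵁ V C i = ⊤ := by
  refine eq_top_iff.2 fun y _ => ?_
  obtain ⟨i, hi⟩ := C.exists_gen ((W C).ι y) y.2
  exact Opens.mem_iSup.2 ⟨i, C.mem_range i _ y.2 hi⟩

/-- The coordinate data. -/
def data : Data m (q C) where
  U i := (W C).ι ⁻¹ᵁ V C i
  φ i k := (W C).ι.app (V C i) (φ C i k)
  cover := iSup_V C
  self i := by rw [φ_self, map_one]
  change i j k O hi hj := by
    have h := congrArg ((W C).ι.appLE (V C i ⊓ V C j) O (le_inf hi hj)).hom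
      (φ_change C i j k (inf_le_left : V C i ⊓ V C j ≤ V C i) inf_le_right)
    rw [map_mul, GrothLib.Ample.appLE_res, GrothLib.Ample.appLE_res, GrothLib.Ample.appLE_res] at h
    exact h
  basicOpen_eq i j := by
    rw [← Scheme.preimage_basicOpen, basicOpen_φ, Scheme.Hom.preimage_inf]

theorem isAffineOpen_data (i : Fin (m + 1)) : IsAffineOpen ((data C).U i) :=
  (isAffineOpen_opensRange (C.c i)).preimage_of_isOpenImmersion (W C).ι
    (by rw [Scheme.Opens.opensRange_ι]; exact V_le C i)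

theorem sec_bijective (i : Fin (m + 1)) : Function.Bijective (PBDeg.sec (C.c i)) :=
  ConcreteCategory.bijective_of_isIso ((Scheme.ΓSpecIso (CommRingCat.of (Dh Γ(X, C.U) i))).inv ≫
    ((C.c i).appIso ⊤).inv ≫
    P.presheaf.map (eqToHom (Scheme.Hom.image_top_eq_opensRange (f := C.c i)).symm).op)

theorem pieceHom_eq (i : Fin (m + 1)) :
    ExcP1.pieceHom (data C) i = (((W C).ι.app (V C i)).hom).comp (PBDeg.sec (C.c i)) := by
  refine MvPolynomial.ringHom_ext (fun r => ?_) fun j => ?_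
  · rw [ExcP1.pieceHom, eval₂Hom_C]
    show (res (le_top : (data C).U i ≤ ⊤)) (ProjUP.toGlobal (q C) r) = (W C).ι.app (V C i) (PBDeg.sec (C.c i) (MvPolynomial.C r))
    let e : Γ(P, V C i) →+* Γ(Spec (CommRingCat.of (Dh Γ(X, C.U) i)), ⊤) :=
      ((C.c i).appLE (V C i) ⊤ (fun x _ => ⟨x, rfl⟩)).hom
    have h3 : C.hU.fromSpec.appLE C.U ⊤ (by rw [IsAffineOpen.fromSpec_preimage_self]) =
        (Scheme.ΓSpecIso Γ(X, C.U)).inv := by
      rw [Scheme.Hom.appLE, IsAffineOpen.fromSpec_app_self, Category.assoc, ← Functor.map_comp]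
      exact (congrArg ((Scheme.ΓSpecIso Γ(X, C.U)).inv ≫ ·) (by
        rw [show (eqToHom C.hU.fromSpec_preimage_self).op ≫ _ = 𝟙 _ from Subsingleton.elim _ _,
          CategoryTheory.Functor.map_id])).trans (Category.comp_id _)
    have h1 : p.appLE C.U (V C i) (V_le C i) r = PBDeg.sec (C.c i) (MvPolynomial.C r) := by
      have hinj : Function.Injective e := by
        refine Function.LeftInverse.injective (g := fun t => PBDeg.sec (C.c i)
          ((Scheme.ΓSpecIso (CommRingCat.of (Dh Γ(X, C.U) i))).hom t)) fun t => ?_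
        obtain ⟨a, rfl⟩ := (sec_bijective C i).2 t
        show PBDeg.sec (C.c i) ((Scheme.ΓSpecIso (CommRingCat.of (Dh Γ(X, C.U) i))).hom (e (PBDeg.sec (C.c i) a))) = _
        rw [show e (PBDeg.sec (C.c i) a) = _ from app_sec (C.c i) a, Iso.inv_hom_id_apply]
      refine hinj ?_
      rw [show e (PBDeg.sec (C.c i) (MvPolynomial.C r)) = _ from app_sec (C.c i) (MvPolynomial.C r)]
      show (p.appLE C.U (V C i) (V_le C i) ≫ (C.c i).appLE (V C i) ⊤ _) r = _
      rw [Scheme.Hom.appLE_comp_appLE]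
      have hc := C.comp i
      have h2 : ∀ (g : Spec (CommRingCat.of (Dh Γ(X, C.U) i)) ⟶ X) (hg : g = C.c i ≫ p)
          (hle : (⊤ : (Spec (CommRingCat.of (Dh Γ(X, C.U) i))).Opens) ≤ g ⁻¹ᵁ C.U),
          (C.c i ≫ p).appLE C.U ⊤ (fun x _ => C.c_mem i x) r = g.appLE C.U ⊤ hle r := by
        rintro g rfl hle
        rfl
      rw [h2 _ hc.symm (fun x _ => by rw [← hc]; exact C.c_mem i x)]
      have h4 : (⊤ : (Spec (CommRingCat.of (Dh Γ(X, C.U) i))).Opens) ≤
          Spec.map (CommRingCat.ofHom (MvPolynomial.C : Γ(X, C.U) →+* Dh Γ(X, C.U) i)) ⁻¹ᵁ ⊤ := fun _ _ => trivial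
      rw [← Scheme.Hom.appLE_comp_appLE _ C.hU.fromSpec C.U ⊤ ⊤ (by rw [IsAffineOpen.fromSpec_preimage_self]) h4, h3]
      exact congr($((Scheme.ΓSpecIso_inv_naturality
        (CommRingCat.ofHom (MvPolynomial.C : Γ(X, C.U) →+* Dh Γ(X, C.U) i)))) r).symm
    rw [← h1]
    have hconst : ProjUP.toGlobal (q C) r = ((W C).ι ≫ p).appLE C.U ⊤ (fun x _ => x.2) r := by
      have h5 : ∀ (g : Z C ⟶ X) (hg : g = (W C).ι ≫ p) (hle : (⊤ : (Z C).Opens) ≤ g ⁻¹ᵁ C.U),
          g.appLE C.U ⊤ hle r = ((W C).ι ≫ p).appLE C.U ⊤ (fun x _ => x.2) r := by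
        rintro g rfl hle
        rfl
      have h6 : (⊤ : (Z C).Opens) ≤ q C ⁻¹ᵁ ⊤ := fun _ _ => trivial
      have h7 : (⊤ : (Z C).Opens) ≤ (q C ≫ C.hU.fromSpec) ⁻¹ᵁ C.U := by
        rw [Scheme.Hom.comp_preimage, IsAffineOpen.fromSpec_preimage_self]; exact h6
      rw [← h5 _ (q_fromSpec C) h7,
        ← Scheme.Hom.appLE_comp_appLE (q C) C.hU.fromSpec C.U ⊤ ⊤ (by rw [IsAffineOpen.fromSpec_preimage_self]) h6, h3]
      show _ = (q C).appLE ⊤ ((q C) ⁻¹ᵁ ⊤) le_rfl ((Scheme.ΓSpecIso Γ(X, C.U)).inv r)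
      rw [← Scheme.Hom.app_eq_appLE]
      rfl
    rw [hconst]
    show ((Z C).presheaf.map (homOfLE le_top).op) (((W C).ι ≫ p).appLE C.U ⊤ _ r) =
      ((p.appLE C.U (V C i) _) ≫ (W C).ι.app (V C i)) r
    rw [Scheme.Hom.app_eq_appLE, Scheme.Hom.appLE_comp_appLE, ← ConcreteCategory.comp_apply, Scheme.Hom.appLE_map]
  · rw [ExcP1.pieceHom, eval₂Hom_X']
    show (W C).ι.app (V C i) (φ C i j.1) = (W C).ι.app (V C i) (PBDeg.sec (C.c i) (MvPolynomial.X j))
    rw [φ, crd_of_ne j.2]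

/-- A bundle with charts is projective space over each chart of the base. -/
theorem exists_projSpace_immersion (hL : PicF.IsInvertible L) :
    ∃ (ω : CohB1.ProjSpace m Γ(X, C.U) ⟶ P) (_ : IsOpenImmersion ω), ω ''ᵁ ⊤ = p ⁻¹ᵁ C.U ∧
      ω ≫ p = CohB1.ProjSpace.toSpec m Γ(X, C.U) ≫ C.hU.fromSpec ∧
      Nonempty ((Scheme.Modules.pullback ω).obj L ≅ Twist.twistProjSpace m Γ(X, C.U) 1) := by
  let D := data C
  haveI : IsIso D.map := ExcP1.isIso_map D (isAffineOpen_data C) fun i => by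
    rw [pieceHom_eq]
    haveI : IsIso ((W C).ι.app (V C i)) :=
      Scheme.Hom.isIso_app (W C).ι _ (by rw [Scheme.Opens.opensRange_ι]; exact V_le C i)
    show Function.Bijective (fun x => (W C).ι.app (V C i) (PBDeg.sec (C.c i) x))
    exact Function.Bijective.comp (ConcreteCategory.bijective_of_isIso ((W C).ι.app (V C i))) (sec_bijective C i)
  let ω : CohB1.ProjSpace m Γ(X, C.U) ⟶ P := inv D.map ≫ (W C).ι
  haveI : IsOpenImmersion ω := inferInstanceAs (IsOpenImmersion (inv D.map ≫ (W C).ι))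
  let mm : ∀ i, Γ((Scheme.Modules.pullback (W C).ι).obj L, D.U i) := fun i =>
    BCCoh.pullRes (W C).ι L (V C i) _ le_rfl (gi C i i)
  have hgen : ∀ i, IsGen _ (D.U i) (mm i) := fun i => PicAff28.isGen_pullRes _ hL (isGen_gi C i) _ le_rfl
  have hm : ∀ (i k : Fin (m + 1)) (O : (Z C).Opens) (hi : O ≤ D.U i) (hk : O ≤ D.U k),
      mres _ hk (mm k) = res hi (D.φ i k) • mres _ hi (mm i) := by
    intro i k O hi hk
    let U' := V C i ⊓ V C k
    have hO : O ≤ (W C).ι ⁻¹ᵁ U' := le_inf hi hk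
    have h1 := BCCoh.pullRes_res (W C).ι L (inf_le_right : U' ≤ V C k) le_rfl hO hk (gi C k k)
    have h2 := BCCoh.pullRes_res (W C).ι L (inf_le_left : U' ≤ V C i) le_rfl hO hi (gi C i i)
    refine h1.trans ?_
    refine (congrArg (BCCoh.pullRes (W C).ι _ U' O hO) (show mres L (inf_le_right : U' ≤ V C k) (gi C k k) =
      res (inf_le_left : U' ≤ V C i) (φ C i k) • mres L (inf_le_left : U' ≤ V C i) (gi C i i) by
        rw [mres_φ_smul]; exact (mres_gi C i k k _ _).symm)).trans ?_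
    refine (BCCoh.pullRes_smul (W C).ι _ U' O hO _ _).trans ?_
    exact congrArg₂ (· • ·) (GrothLib.Ample.appLE_res (W C).ι inf_le_left hO _) h2.symm
  obtain ⟨τ⟩ := ExcP1.nonempty_pullback_iso D mm hgen hm
  refine ⟨ω, inferInstanceAs (IsOpenImmersion (inv D.map ≫ (W C).ι)), ?_, ?_, ⟨?_⟩⟩
  · rw [Scheme.Hom.image_top_eq_opensRange, Scheme.Hom.opensRange_comp_of_isIso, Scheme.Opens.opensRange_ι]
  · rw [← cancel_epi D.map]
    simp only [ω, Category.assoc, IsIso.hom_inv_id_assoc]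
    rw [← q_fromSpec, reassoc_of% D.map_toSpec]
  · exact ((Scheme.Modules.pullbackComp (inv D.map) (W C).ι).app L).symm ≪≫
      (Scheme.Modules.pullback (inv D.map)).mapIso τ.symm ≪≫
      (Scheme.Modules.pullbackComp (inv D.map) D.map).app (Twist.twistProjSpace m Γ(X, C.U) 1) ≪≫
      eqToIso (by rw [IsIso.inv_hom_id]) ≪≫
      (Scheme.Modules.pullbackId _).app (Twist.twistProjSpace m Γ(X, C.U) 1)

end GrothLib.ProjBdlCoh9
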